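import Mathlib.RingTheory.Kaehler.Basic
import Mathlib.LinearAlgebra.ExteriorAlgebra.Grading
import Mathlib.LinearAlgebra.ExteriorPower.Basic
import Mathlib.LinearAlgebra.CliffordAlgebra.Conjugation
import Mathlib.Data.Matrix.Mul
import Mathlib.Algebra.Algebra.Subalgebra.Basic
import Mathlib.Tactic.NoncommRing

/-!
The de Rham differential on the exterior algebra of Kaehler differentials.
-/

set_option autoImplicit false

universe u

namespace Groth.Agent.DeRhamExt.Basic

variable (R A : Type u) [CommRing R] [CommRing A] [Algebra R A]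

abbrev L := ExteriorAlgebra A (KaehlerDifferential R A)

variable {R A}

/-- degree one generators -/
noncomputable abbrev di (a : A) : L R A := ExteriorAlgebra.ι A (KaehlerDifferential.D R A a)

/-- parity -/
noncomputable abbrev eps : L R A →ₐ[A] L R A := CliffordAlgebra.involute

theorem eps_ι (w : KaehlerDifferential R A) : eps (ExteriorAlgebra.ι A w : L R A) = -ExteriorAlgebra.ι A w :=
  CliffordAlgebra.involute_ι w

theorem ι_comm (v : KaehlerDifferential R A) (x : L R A) : ExteriorAlgebra.ι A v * x = eps x * ExteriorAlgebra.ι A v := by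
  induction x using ExteriorAlgebra.induction with
  | algebraMap r => rw [AlgHom.commutes]; exact (Algebra.commutes r _).symm
  | ι w => rw [eps_ι, neg_mul, eq_neg_iff_add_eq_zero]; exact ExteriorAlgebra.ι_add_mul_swap v w
  | mul a b ha hb => rw [← mul_assoc, ha, mul_assoc, hb, map_mul, mul_assoc]
  | add a b ha hb => rw [mul_add, ha, hb, map_add, add_mul]

theorem eps_eps (x : L R A) : eps (eps x) = x := CliffordAlgebra.involute_involute x

noncomputable def phi : (A →₀ A) →+ L R A :=
  Finsupp.liftAddHom fun b =>
    { toFun := fun a => di a * di b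
      map_zero' := by simp [di]
      map_add' := fun a a' => by simp [di, add_mul] }

theorem phi_single (b a : A) : phi (R := R) (Finsupp.single b a) = di a * di b := by
  simp [phi, Finsupp.sum_single_index, di]

theorem phi_smul (c : A) (f : A →₀ A) : phi (R := R) (c • f) =
    c • phi f + di c * ExteriorAlgebra.ι A (Finsupp.linearCombination A (KaehlerDifferential.D R A) f) := by
  induction f using Finsupp.induction_linear with
  | zero => simp
  | add f g hf hg => rw [smul_add, map_add, hf, hg, map_add, smul_add, map_add, map_add, mul_add]; abel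
  | single b a =>
    rw [Finsupp.smul_single, smul_eq_mul, phi_single, phi_single, Finsupp.linearCombination_single]
    simp only [di, Derivation.leibniz, map_add, map_smul, add_mul, smul_mul_assoc, mul_smul_comm]

theorem phi_ker (f : A →₀ A) (hf : f ∈ KaehlerDifferential.kerTotal R A) : phi (R := R) f = 0 := by
  induction hf using Submodule.span_induction with
  | mem x hx =>
    rcases hx with (⟨⟨p, q⟩, rfl⟩ | ⟨⟨p, q⟩, rfl⟩) | ⟨r, rfl⟩
    · simp [phi_single, di]
    · simp only [map_add, map_sub, phi_single]
      rw [show di (R := R) (1 : A) = 0 by simp [di], zero_mul, sub_zero]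
      exact ExteriorAlgebra.ι_add_mul_swap _ _
    · simp [phi_single, di]
  | zero => simp
  | add x y _ _ hx hy => rw [map_add, hx, hy, add_zero]
  | smul c x hx hx0 =>
    have h : Finsupp.linearCombination A (KaehlerDifferential.D R A) x = 0 :=
      LinearMap.mem_ker.1 ((KaehlerDifferential.kerTotal_eq R A).ge hx)
    rw [phi_smul, hx0, h]; simp

noncomputable def d1 (w : KaehlerDifferential R A) : L R A :=
  phi (Function.surjInv (KaehlerDifferential.linearCombination_surjective R A) w)

theorem d1_lc (f : A →₀ A) : d1 (Finsupp.linearCombination A (KaehlerDifferential.D R A) f) = phi (R := R) f := by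
  rw [d1, ← sub_eq_zero, ← map_sub]
  refine phi_ker _ ((KaehlerDifferential.kerTotal_eq R A).le (LinearMap.mem_ker.2 ?_))
  rw [map_sub, Function.surjInv_eq (KaehlerDifferential.linearCombination_surjective R A), sub_self]

theorem d1_add (v w : KaehlerDifferential R A) : d1 (v + w) = d1 v + d1 w := by
  obtain ⟨f, rfl⟩ := KaehlerDifferential.linearCombination_surjective R A v
  obtain ⟨g, rfl⟩ := KaehlerDifferential.linearCombination_surjective R A w
  rw [← map_add, d1_lc, d1_lc, d1_lc, map_add]

theorem d1_smul (c : A) (w : KaehlerDifferential R A) : d1 (c • w) = c • d1 w + di c * ExteriorAlgebra.ι A w := by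
  obtain ⟨f, rfl⟩ := KaehlerDifferential.linearCombination_surjective R A w
  rw [← map_smul, d1_lc, d1_lc, phi_smul]

theorem d1_D (a : A) : d1 (KaehlerDifferential.D R A a) = 0 := by
  have := d1_lc (R := R) (Finsupp.single a (1 : A))
  rw [Finsupp.linearCombination_single, one_smul, phi_single] at this
  simpa [di] using this

theorem d1_mem (w : KaehlerDifferential R A) : d1 w ∈ ExteriorAlgebra.exteriorPower A 2 (KaehlerDifferential R A) := by
  obtain ⟨f, rfl⟩ := KaehlerDifferential.linearCombination_surjective R A w
  rw [d1_lc]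
  induction f using Finsupp.induction_linear with
  | zero => simp
  | add f g hf hg => rw [map_add]; exact add_mem hf hg
  | single b a =>
    rw [phi_single]
    show _ ∈ LinearMap.range (ExteriorAlgebra.ι A : KaehlerDifferential R A →ₗ[A] L R A) ^ 2
    rw [sq]
    exact Submodule.mul_mem_mul ⟨_, rfl⟩ ⟨_, rfl⟩

theorem eps_of_mem (p : ℕ) {x : L R A} (hx : x ∈ ExteriorAlgebra.exteriorPower A p (KaehlerDifferential R A)) :
    eps x = (-1) ^ p * x := by
  induction hx using Submodule.pow_induction_on_left' with
  | algebraMap r => simp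
  | add x y i hx hy ihx ihy => rw [map_add, ihx, ihy, mul_add]
  | mem_mul m hm i x hx ih =>
    obtain ⟨w, rfl⟩ := hm
    rw [map_mul, eps_ι, ih, pow_succ, mul_assoc ((-1 : L R A) ^ i), neg_one_mul, neg_mul, mul_neg, neg_inj,
      ← mul_assoc, ← mul_assoc, ((Commute.neg_one_left _).pow_left i).eq]

theorem d1_comm (w : KaehlerDifferential R A) (x : L R A) : d1 w * x = x * d1 w := by
  obtain ⟨f, rfl⟩ := KaehlerDifferential.linearCombination_surjective R A w
  rw [d1_lc]
  induction f using Finsupp.induction_linear with
  | zero => simp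
  | add f g hf hg => rw [map_add, add_mul, mul_add, hf, hg]
  | single b a => rw [phi_single, mul_assoc, ι_comm (KaehlerDifferential.D R A b), ← mul_assoc, ι_comm (KaehlerDifferential.D R A a), eps_eps, mul_assoc]

/-- upper triangular matrices encoding a value and its twisted derivative -/
noncomputable def tri : Subring (Matrix (Fin 2) (Fin 2) (L R A)) where
  carrier := {M | M 1 0 = 0 ∧ M 0 0 = eps (M 1 1)}
  mul_mem' := fun {M N} hM hN => by
    refine ⟨?_, ?_⟩
    · simp [Matrix.mul_apply, Fin.sum_univ_two, hM.1, hN.1]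
    · simp [Matrix.mul_apply, Fin.sum_univ_two, hM.1, hM.2, hN.1, hN.2]
  one_mem' := ⟨by simp, by simp⟩
  add_mem' := fun {M N} hM hN => ⟨by simp [hM.1, hN.1], by simp [hM.2, hN.2]⟩
  zero_mem' := ⟨by simp, by simp⟩
  neg_mem' := fun {M} hM => ⟨by simp [hM.1], by simp [hM.2]⟩

theorem di_mul (a b : A) : di (R := R) (a * b) = a • di b + b • di a := by
  simp [di, Derivation.leibniz]

theorem di_mul' (a b : A) :
    di (R := R) (a * b) = algebraMap A (L R A) a * di b + di a * algebraMap A (L R A) b := by
  rw [di_mul, Algebra.smul_def, Algebra.smul_def, Algebra.commutes b]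

noncomputable def aHom : A →+* (tri : Subring (Matrix (Fin 2) (Fin 2) (L R A))) :=
  RingHom.codRestrict
    { toFun := fun a => !![algebraMap A (L R A) a, di a; 0, algebraMap A (L R A) a]
      map_one' := by ext i j; fin_cases i <;> fin_cases j <;> simp [di]
      map_zero' := by ext i j; fin_cases i <;> fin_cases j <;> simp [di]
      map_add' := fun a b => by ext i j; fin_cases i <;> fin_cases j <;> simp [di]
      map_mul' := fun a b => by
        ext i j
        fin_cases i <;> fin_cases j <;>
          simp [Matrix.mul_apply, Fin.sum_univ_two, di_mul'] }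
    tri (fun a => ⟨rfl, (AlgHom.commutes _ a).symm⟩)

theorem central (c : A) (x : L R A) (u : L R A) :
    algebraMap A (L R A) c * u + di c * x = eps x * di c + u * algebraMap A (L R A) c := by
  rw [ι_comm, Algebra.commutes c u, add_comm]

noncomputable instance triAlgebra : Algebra A (tri : Subring (Matrix (Fin 2) (Fin 2) (L R A))) :=
  RingHom.toAlgebra' aHom fun c x => by
    apply Subtype.ext
    obtain ⟨M, h1, h2⟩ := x
    ext i j
    fin_cases i <;> fin_cases j
    · simpa [aHom, Matrix.mul_apply, Fin.sum_univ_two, h1, h2] using Algebra.commutes c (eps (M 1 1))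
    · simpa [aHom, Matrix.mul_apply, Fin.sum_univ_two, h1, h2] using central c (M 1 1) (M 0 1)
    · simp [aHom, Matrix.mul_apply, Fin.sum_univ_two, h1]
    · simpa [aHom, Matrix.mul_apply, Fin.sum_univ_two, h1, h2] using Algebra.commutes c (M 1 1)

theorem mem_tri {M : Matrix (Fin 2) (Fin 2) (L R A)} (h1 : M 1 0 = 0) (h2 : M 0 0 = eps (M 1 1)) :
    M ∈ (tri : Subring (Matrix (Fin 2) (Fin 2) (L R A))) := ⟨h1, h2⟩

/-- image of a generator, as a matrix -/
noncomputable def genM (w : KaehlerDifferential R A) : Matrix (Fin 2) (Fin 2) (L R A) :=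
  Matrix.of ![![-(ExteriorAlgebra.ι A w : L R A), d1 w], ![0, ExteriorAlgebra.ι A w]]

theorem genM_00 (w : KaehlerDifferential R A) : genM w 0 0 = -(ExteriorAlgebra.ι A w : L R A) := rfl
theorem genM_01 (w : KaehlerDifferential R A) : genM w 0 1 = d1 w := rfl
theorem genM_10 (w : KaehlerDifferential R A) : genM w 1 0 = 0 := rfl
theorem genM_11 (w : KaehlerDifferential R A) : genM w 1 1 = (ExteriorAlgebra.ι A w : L R A) := rfl

noncomputable def genT (w : KaehlerDifferential R A) : (tri : Subring (Matrix (Fin 2) (Fin 2) (L R A))) :=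
  ⟨genM w, mem_tri (genM_10 w) (by rw [genM_00, genM_11, eps_ι])⟩

noncomputable def gen : KaehlerDifferential R A →ₗ[A] (tri : Subring (Matrix (Fin 2) (Fin 2) (L R A))) where
  toFun := genT
  map_add' v w := by
    apply Subtype.ext
    ext i j
    fin_cases i <;> fin_cases j <;> simp [genT, genM_00, genM_01, genM_10, genM_11, d1_add, add_comm]
  map_smul' c w := by
    rw [RingHom.id_apply, Algebra.smul_def]
    apply Subtype.ext
    ext i j
    fin_cases i <;> fin_cases j <;>
      simp [RingHom.algebraMap_toAlgebra', aHom, Matrix.mul_apply, Fin.sum_univ_two, d1_smul, Algebra.smul_def, genT, genM_00, genM_01, genM_10, genM_11]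

noncomputable def psi : L R A →ₐ[A] (tri : Subring (Matrix (Fin 2) (Fin 2) (L R A))) :=
  ExteriorAlgebra.lift A ⟨gen, fun w => by
    apply Subtype.ext
    ext i j
    fin_cases i <;> fin_cases j <;>
      simp [gen, genT, genM_00, genM_01, genM_10, genM_11, Matrix.mul_apply, Fin.sum_univ_two, ExteriorAlgebra.ι_sq_zero, d1_comm]⟩

theorem psi_11 (x : L R A) : (psi x).1 1 1 = x := by
  induction x using ExteriorAlgebra.induction with
  | algebraMap r => rw [AlgHom.commutes]; simp [RingHom.algebraMap_toAlgebra', aHom]
  | ι w => simp [psi, gen, genT, genM_00, genM_01, genM_10, genM_11]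
  | mul a b ha hb => simp [Matrix.mul_apply, Fin.sum_univ_two, (psi a).2.1, ha, hb]
  | add a b ha hb => simp [ha, hb]

noncomputable def d0 (x : L R A) : L R A := (psi x).1 0 1

theorem d0_add (x y : L R A) : d0 (x + y) = d0 x + d0 y := by simp [d0]

theorem d0_mul (x y : L R A) : d0 (x * y) = d0 x * y + eps x * d0 y := by
  simp [d0, Matrix.mul_apply, Fin.sum_univ_two, (psi x).2.2, psi_11, add_comm]

theorem d0_algebraMap (a : A) : d0 (algebraMap A (L R A) a) = di a := by
  rw [d0, AlgHom.commutes]; simp [RingHom.algebraMap_toAlgebra', aHom]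

theorem d0_ι (w : KaehlerDifferential R A) : d0 (ExteriorAlgebra.ι A w) = d1 w := by simp [d0, psi, gen, genT, genM_00, genM_01, genM_10, genM_11]

variable (R A) in
noncomputable def d : L R A →ₗ[R] L R A where
  toFun := d0
  map_add' := d0_add
  map_smul' r x := by
    rw [RingHom.id_apply, Algebra.smul_def, IsScalarTower.algebraMap_apply R A (L R A), d0_mul, d0_algebraMap,
      AlgHom.commutes, ← IsScalarTower.algebraMap_apply, ← Algebra.smul_def]
    simp [di]

theorem ep_eq (n : ℕ) : ExteriorAlgebra.exteriorPower A n (KaehlerDifferential R A) =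
    LinearMap.range (ExteriorAlgebra.ι A : KaehlerDifferential R A →ₗ[A] L R A) ^ n := rfl

theorem d_mem (p : ℕ) {x : L R A} (hx : x ∈ ExteriorAlgebra.exteriorPower A p (KaehlerDifferential R A)) :
    d R A x ∈ ExteriorAlgebra.exteriorPower A (p + 1) (KaehlerDifferential R A) := by
  show d0 x ∈ _
  induction hx using Submodule.pow_induction_on_left' with
  | algebraMap r => rw [d0_algebraMap, ep_eq, zero_add, pow_one]; exact ⟨_, rfl⟩
  | add x y i hx hy ihx ihy => rw [d0_add]; exact add_mem ihx ihy
  | mem_mul m hm i x hx ih =>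
    obtain ⟨w, rfl⟩ := hm
    rw [d0_mul, d0_ι, eps_ι]
    refine add_mem ?_ ?_
    · rw [show i + 1 + 1 = 2 + i by omega, ep_eq, pow_add]; exact Submodule.mul_mem_mul (d1_mem w) hx
    · rw [neg_mul]
      refine neg_mem ?_
      rw [show i + 1 + 1 = 1 + (i + 1) by omega, ep_eq, pow_add, pow_one]
      exact Submodule.mul_mem_mul ⟨_, rfl⟩ ih

theorem d0_eps (x : L R A) : d0 (eps x) = -eps (d0 x) := by
  induction x using ExteriorAlgebra.induction with
  | algebraMap r => rw [AlgHom.commutes, d0_algebraMap, eps_ι, neg_neg]
  | ι w =>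
    have h : d0 (-ExteriorAlgebra.ι A w : L R A) = -d1 w := by
      show d R A (-ExteriorAlgebra.ι A w) = _
      rw [map_neg]
      exact congrArg Neg.neg (d0_ι w)
    rw [eps_ι, h, d0_ι, eps_of_mem 2 (d1_mem w)]
    simp
  | mul a b ha hb =>
    rw [map_mul, d0_mul, ha, hb, eps_eps, d0_mul, map_add, map_mul, map_mul, eps_eps]; noncomm_ring
  | add a b ha hb => rw [map_add, d0_add, ha, hb, d0_add, map_add, neg_add]

theorem d_d (x : L R A) : d0 (d0 x) = 0 := by
  induction x using ExteriorAlgebra.induction with
  | algebraMap r => rw [d0_algebraMap, d0_ι, d1_D]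
  | ι w =>
    rw [d0_ι]
    obtain ⟨f, rfl⟩ := KaehlerDifferential.linearCombination_surjective R A w
    rw [d1_lc]
    induction f using Finsupp.induction_linear with
    | zero => exact (d R A).map_zero
    | add f g hf hg => rw [map_add, d0_add, hf, hg, add_zero]
    | single b a => rw [phi_single, d0_mul, d0_ι, d0_ι, d1_D, d1_D]; simp
  | mul a b ha hb =>
    rw [d0_mul, d0_add, d0_mul, d0_mul, ha, hb, d0_eps, eps_eps]; noncomm_ring
  | add a b ha hb => rw [d0_add, d0_add, ha, hb, add_zero]

theorem unique (e : L R A →ₗ[R] L R A) (h1 : ∀ a : A, e (algebraMap A (L R A) a) = di a)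
    (h3 : ∀ (p : ℕ) (x y : L R A), x ∈ ExteriorAlgebra.exteriorPower A p (KaehlerDifferential R A) →
      e (x * y) = e x * y + (-1) ^ p * x * e y)
    (h4 : ∀ x, e (e x) = 0) : e = d R A := by
  have hm0 : ∀ a : A, algebraMap A (L R A) a ∈ ExteriorAlgebra.exteriorPower A 0 (KaehlerDifferential R A) :=
    fun a => by rw [ep_eq, pow_zero]; exact Submodule.algebraMap_mem a
  have hι : ∀ w, e (ExteriorAlgebra.ι A w) = d1 w := fun w => by
    obtain ⟨f, rfl⟩ := KaehlerDifferential.linearCombination_surjective R A w
    rw [d1_lc]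
    induction f using Finsupp.induction_linear with
    | zero => simp
    | add f g hf hg => rw [map_add, map_add, map_add, hf, hg, map_add]
    | single b a =>
      have hb : e (di b) = 0 := by rw [← h1]; exact h4 _
      rw [phi_single, Finsupp.linearCombination_single, map_smul, Algebra.smul_def, h3 0 _ _ (hm0 a), h1, hb]
      simp
  refine LinearMap.ext fun x => ?_
  induction x using ExteriorAlgebra.induction with
  | algebraMap r => exact (h1 r).trans (d0_algebraMap r).symm
  | ι w => exact (hι w).trans (d0_ι w).symm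
  | mul a b ha hb =>
    have hd : ∀ p, ∀ y ∈ ExteriorAlgebra.exteriorPower A p (KaehlerDifferential R A), e y = d R A y := by
      intro p y hy
      induction hy using Submodule.pow_induction_on_left' with
      | algebraMap r => exact (h1 r).trans (d0_algebraMap r).symm
      | add x y i hx hy ihx ihy => rw [map_add, map_add, ihx, ihy]
      | mem_mul m hm i x hx ih =>
        obtain ⟨w, rfl⟩ := hm
        show _ = d0 _
        rw [h3 1 _ _ (by rw [ep_eq, pow_one]; exact ⟨w, rfl⟩), ih, hι, d0_mul, d0_ι, eps_ι, pow_one, neg_one_mul]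
        rfl
    clear ha
    induction a using DirectSum.Decomposition.inductionOn
        (fun p => ExteriorAlgebra.exteriorPower A p (KaehlerDifferential R A)) with
    | zero => simp
    | homogeneous m =>
      show _ = d0 _
      rw [h3 _ _ _ m.2, d0_mul, hd _ _ m.2, hb, eps_of_mem _ m.2]
      rfl
    | add m m' h h' => rw [add_mul, map_add, map_add, h, h']
  | add a b ha hb => rw [map_add, map_add, ha, hb]

end Groth.Agent.DeRhamExt.Basic
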